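import Groth.Agent.ProjBundleLib.EpiComp
import Groth.Agent.ProjBundleLib.Main
import Groth.Agent.Desc44.ProjBundle.Quot
import Groth.Agent.CycLib.ProjBdl.OfKRR

/-!
Existence of proper projective bundles with their universal property.
-/

set_option autoImplicit false
set_option linter.style.haveILetI false
set_option maxHeartbeats 1000000

universe u

open CategoryTheory CategoryTheory.Limits AlgebraicGeometry TopologicalSpace Opposite

namespace Groth.Agent.ChernUniq88

open Groth.Agent

variable {X : Scheme.{u}} {E : X.Modules}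

theorem exists_isProjBundle (hE : FlatMod.IsFinLocFree E) [E.IsQuasicoherent] :
    ∃ (P : Scheme.{u}) (p : P ⟶ X) (O1 : P.Modules) (q : (Scheme.Modules.pullback p).obj E ⟶ O1),
      KRR.IsProjBundle p E O1 q ∧ IsProper p := by
  obtain ⟨B⟩ := ProjBundleLib.exists_bundle E
  refine ⟨B.P, B.p, B.O1, ((Scheme.Modules.pullbackPushforwardAdjunction B.p).homEquiv E B.O1).symm B.φ,
    ⟨ProjTwist.isFinLocFreeOfRank_one (GrModLib.isInvertible_relTwist (SymLib.isGenDegOne B.hj) B.hO1), ?_,
      fun T g L hL s hs => ?_⟩, ProjBundleLib.isProper_bundle hE B⟩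
  · refine ProjBundleLib.epi_of_gens ?_
    rw [ProjBundleLib.adjMap, Equiv.apply_symm_apply]
    exact ProjBundleLib.gens_can B.hj B.hO1 B.hφ
  · exact ProjBundleLib.existsUnique_hom B.hj B.hP B.hO1 B.hφ
      (Desc44.ProjBundle.isInvertible_of_rank_one hL) s hs

end Groth.Agent.ChernUniq88
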