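import Groth.Agent.CycLib.ChowOp.Split
import Groth.Agent.CycLib.ProjBdl.ChernFunct

/-!
Chern class caps do not depend on the chosen projective bundle, and are additive.
-/

set_option autoImplicit false
set_option maxHeartbeats 1000000

universe u

open CategoryTheory AlgebraicGeometry

namespace Groth.Agent.ChernUniq88

open Groth.Agent CycLib CycLib.Dev CycLib.ChowOp

variable {X : Scheme.{u}} [IsLocallyNoetherian X] {δ : X → ℤ} (hX : Cyc.IsSetup X δ) {r : ℕ} {E : X.Modules}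
  (hE : FlatMod.IsFinLocFreeOfRank r E) {P : Scheme.{u}} {p : P ⟶ X} {O1 : P.Modules} [IsProper p]
  {q : (Scheme.Modules.pullback p).obj E ⟶ O1} (hP : KRR.IsProjBundle p E O1 q)
  {δP : P → ℤ} (hPs : Cyc.IsSetup P δP) (hδ : Cyc.DeltaCompat p δP δ) {k : ℤ}

include hX hE hP hPs hδ

/-- Caps of isomorphic bundles on rationally equivalent cycles agree. -/
theorem caps_agree {E' : X.Modules} (e : E ≅ E') (hE' : FlatMod.IsFinLocFreeOfRank r E') {P' : Scheme.{u}}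
    {p' : P' ⟶ X} {O1' : P'.Modules} [IsProper p'] {q' : (Scheme.Modules.pullback p').obj E' ⟶ O1'}
    (hP' : KRR.IsProjBundle p' E' O1' q') {δP' : P' → ℤ} (hPs' : Cyc.IsSetup P' δP')
    (hδ' : Cyc.DeltaCompat p' δP' δ) {α α' : AlgebraicCycle X ℤ} (hα : α ∈ Cyc.Zk X δ k)
    (hα' : α' ∈ Cyc.Zk X δ k) (h : Cyc.RatEquiv δ k α α') {γ γ' : Fin (r + 1) → AlgebraicCycle X ℤ}
    (hγ : Cyc.IsChernCap p δ δP O1 r k α γ) (hγ' : Cyc.IsChernCap p' δ δP' O1' r k α' γ')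
    (j : Fin (r + 1)) : Cyc.RatEquiv δ (k - ((j : ℕ) : ℤ)) (γ j) (γ' j) := by
  obtain ⟨S, ls, hl, hfil⟩ := exists_split_one (hX := hX) hE
  refine S.ratEquiv (hγ.2.1 j) (hγ'.2.1 j) ?_
  have hfil' : S.Fil hX E' ls := Filt.of_iso hfil ((Scheme.Modules.pullback S.f).mapIso e).symm
  rw [S.chern hE hP hPs hδ hl hfil hα hγ j, S.chern hE' hP' hPs' hδ' hl hfil' hα' hγ' j,
    (cls_eq_iff hX.2.2 (IsCyc.of_cycle α hα) (IsCyc.of_cycle α' hα')).2 h]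

/-- Caps are additive. -/
theorem caps_add {α β : AlgebraicCycle X ℤ} (hα : α ∈ Cyc.Zk X δ k) (hβ : β ∈ Cyc.Zk X δ k)
    {γa γb γc : Fin (r + 1) → AlgebraicCycle X ℤ} (ha : Cyc.IsChernCap p δ δP O1 r k α γa)
    (hb : Cyc.IsChernCap p δ δP O1 r k β γb) (hc : Cyc.IsChernCap p δ δP O1 r k (α + β) γc)
    (j : Fin (r + 1)) : Cyc.RatEquiv δ (k - ((j : ℕ) : ℤ)) (γc j) (γa j + γb j) := by
  obtain ⟨S, ls, hl, hfil⟩ := exists_split_one (hX := hX) hE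
  refine S.ratEquiv (hc.2.1 j) ((ChowOps.zk X δ _).add_mem (ha.2.1 j) (hb.2.1 j)) ?_
  rw [S.chern hE hP hPs hδ hl hfil ((ChowOps.zk X δ _).add_mem hα hβ) hc j,
    Function.locallyFinsuppWithin.coe_add, Function.locallyFinsuppWithin.coe_add,
    cls_add hX.2.2 (IsCyc.of_cycle α hα) (IsCyc.of_cycle β hβ),
    cls_add hX.2.2 (IsCyc.of_cycle _ (ha.2.1 j)) (IsCyc.of_cycle _ (hb.2.1 j))]
  simp only [map_add]
  rw [S.chern hE hP hPs hδ hl hfil hα ha j, S.chern hE hP hPs hδ hl hfil hβ hb j]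

/-- Caps of a cycle rationally equivalent to zero are rationally equivalent to zero. -/
theorem caps_zero {α : AlgebraicCycle X ℤ} (hα : α ∈ Cyc.Zk X δ k) (h : Cyc.RatEquivZero δ k α)
    {γ : Fin (r + 1) → AlgebraicCycle X ℤ} (hγ : Cyc.IsChernCap p δ δP O1 r k α γ) (j : Fin (r + 1)) :
    Cyc.RatEquivZero δ (k - ((j : ℕ) : ℤ)) (γ j) := by
  obtain ⟨S, ls, hl, hfil⟩ := exists_split_one (hX := hX) hE
  have h0 : (0 : AlgebraicCycle X ℤ) ∈ Cyc.Zk X δ (k - ((j : ℕ) : ℤ)) := (ChowOps.zk X δ _).zero_mem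
  have hh := S.ratEquiv (hγ.2.1 j) h0 (by
    rw [S.chern hE hP hPs hδ hl hfil hα hγ j]
    have hz : cls hX.2.2 k ⇑α = cls hX.2.2 k ⇑(0 : AlgebraicCycle X ℤ) :=
      (cls_eq_iff hX.2.2 (IsCyc.of_cycle α hα) (IsCyc.of_cycle _ (ChowOps.zk X δ k).zero_mem)).2
        (by show Cyc.RatEquivZero δ k (α - 0); rw [sub_zero]; exact h)
    rw [hz, Function.locallyFinsuppWithin.coe_zero, cls_zero, cls_zero]
    simp only [map_zero])
  simpa [Cyc.RatEquiv] using hh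

end Groth.Agent.ChernUniq88

namespace Groth.Agent.CycLib.ProjBdl

open Groth.Agent CycLib CycLib.Dev

/-- The Chern relation only depends on the classes. -/
theorem isChernCap_congr {X P : Scheme.{u}} {p : P ⟶ X} {O1 : P.Modules} {r : ℕ} (L : Cov p O1 r) (hr : 1 ≤ r)
    {δ : X → ℤ} {δP : P → ℤ} [IsLocallyNoetherian X] [IsLocallyNoetherian P] (hX : Cyc.IsSetup X δ)
    (hP : Cyc.IsSetup P δP) (hδ : Cyc.DeltaCompat p δP δ) (hinv : PicF.IsInvertible O1) {k : ℤ}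
    {α : AlgebraicCycle X ℤ} {γ ζ : Fin (r + 1) → AlgebraicCycle X ℤ} (hγ : Cyc.IsChernCap p δ δP O1 r k α γ)
    (h0 : ζ 0 = α) (hζ : ∀ j : Fin (r + 1), ζ j ∈ Cyc.Zk X δ (k - ((j : ℕ) : ℤ)))
    (h : ∀ j : Fin (r + 1), Cyc.RatEquiv δ (k - ((j : ℕ) : ℤ)) (ζ j) (γ j)) :
    Cyc.IsChernCap p δ δP O1 r k α ζ := by
  classical
  haveI := L.flat
  choose σ hσ using exists_isBas hinv
  let t : ℕ → (ξ : P) → Cyc.secFibre O1 ξ := fun _ ξ => Submodule.Quotient.mk (σ ξ)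
  have ht : ∀ m ξ, t m ξ ≠ 0 := fun _ ξ => mk_ne_zero_of_isBas (hσ ξ)
  rw [L.isChernCap_iff hr hP.2.2 hδ hinv k ζ hζ α h0 t ht]
  have hg := (L.isChernCap_iff hr hP.2.2 hδ hinv k γ hγ.2.1 α hγ.1 t ht).1 hγ
  have hd : relSum δ δP r p ζ t - relSum δ δP r p γ t ∈ prin hP.2.2 (k - 1) := by
    rw [relSum, relSum, ← Finset.sum_sub_distrib]
    refine sum_mem fun i _ => ?_
    rw [← smul_sub]
    refine zsmul_mem ?_ _
    have hc := L.isCyc_pull hr hP.2.2 hδ (ζ (Fin.rev i)) (hζ (Fin.rev i))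
    have hc' := L.isCyc_pull hr hP.2.2 hδ (γ (Fin.rev i)) (hγ.2.1 (Fin.rev i))
    have hab : (⇑(ζ (Fin.rev i)) : X → ℤ) - ⇑(γ (Fin.rev i)) ∈
        prin hX.2.2 (k - (((Fin.rev i : Fin (r + 1)) : ℕ) : ℤ)) :=
      (ratEquivZero_iff hX.2.2 _ (ζ (Fin.rev i) - γ (Fin.rev i))).1 (h (Fin.rev i))
    have hp := pull_mem (f := p) hP hX (L.shiftBy hP.2.2 hδ)
      ((IsCyc.of_cycle _ (hζ (Fin.rev i))).sub (IsCyc.of_cycle _ (hγ.2.1 (Fin.rev i)))) hab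
    have hp' : Cyc.pullFun p δP δ ((r : ℤ) - 1) ⇑(ζ (Fin.rev i)) -
        Cyc.pullFun p δP δ ((r : ℤ) - 1) ⇑(γ (Fin.rev i)) ∈
          prin hP.2.2 (k - (((Fin.rev i : Fin (r + 1)) : ℕ) : ℤ) + r - 1) := by
      rw [show k - (((Fin.rev i : Fin (r + 1)) : ℕ) : ℤ) + (r : ℤ) - 1 =
        k - (((Fin.rev i : Fin (r + 1)) : ℕ) : ℤ) + ((r : ℤ) - 1) by ring]
      convert hp using 1
      funext x
      simp only [Pi.sub_apply, Cyc.pullFun]
      split_ifs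
      · rw [sub_mul]
      · rw [sub_zero]
    have h1 := iter_change hP.2.2 hinv hc hc' hp' t t ht ht i
    convert h1 using 2
    rw [Fin.val_rev]
    have := i.2
    omega
  have h2 := add_mem hd hg
  rwa [sub_add_cancel] at h2

end Groth.Agent.CycLib.ProjBdl
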