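import Groth.Agent.ChernUniq88.Bundle
import Groth.Agent.Grass52.QuotBC

/-!
Any two projective bundles of the same module are isomorphic over the base; consequently the structure
morphism of any projective bundle of a finite locally free module is proper.
-/

set_option autoImplicit false
set_option backward.isDefEq.respectTransparency false
set_option backward.isDefEq.respectTransparency.types false
set_option maxHeartbeats 1000000

universe u

open CategoryTheory CategoryTheory.Limits AlgebraicGeometry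

namespace Groth.Agent.ChernUniq88

open Groth.Agent

variable {X P P' : Scheme.{u}} {π : P ⟶ X} {π' : P' ⟶ X} {E : X.Modules} {O1 : P.Modules} {O1' : P'.Modules}

theorem quotBC_id (q : (Scheme.Modules.pullback π).obj E ⟶ O1) :
    Grass.quotBC (Category.id_comp π) q ≫ (Scheme.Modules.pullbackId P).hom.app O1 = q := by
  have hnat : (Scheme.Modules.pullback (𝟙 P)).map q ≫ (Scheme.Modules.pullbackId P).hom.app O1 =
      (Scheme.Modules.pullbackId P).hom.app _ ≫ q := (Scheme.Modules.pullbackId P).hom.naturality q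
  have h := congr_app (Scheme.Modules.pseudofunctor_right_unitality π) E
  simp only [NatTrans.comp_app, Functor.whiskerLeft_app, Functor.rightUnitor_hom_app, Category.comp_id] at h
  unfold Grass.quotBC
  simp only [Category.assoc]
  rw [hnat, reassoc_of% h]
  simp [Scheme.Modules.pullbackCongr]
  exact Category.id_comp q

theorem comp_eq_id {q : (Scheme.Modules.pullback π).obj E ⟶ O1} (hP : KRR.IsProjBundle π E O1 q) {q' : (Scheme.Modules.pullback π').obj E ⟶ O1'}
    {θ : P' ⟶ P} (hθ : θ ≫ π = π') (e : (Scheme.Modules.pullback θ).obj O1 ≅ O1')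
    (he : Grass.quotBC hθ q ≫ e.hom = q')
    {θ' : P ⟶ P'} (hθ' : θ' ≫ π' = π) (e' : (Scheme.Modules.pullback θ').obj O1' ≅ O1)
    (he' : Grass.quotBC hθ' q' ≫ e'.hom = q) : θ' ≫ θ = 𝟙 P := by
  obtain ⟨h, -, huniq⟩ := hP.univ P π O1 hP.invertible q hP.epi
  have hgp : (θ' ≫ θ) ≫ π = π := by rw [Category.assoc, hθ, hθ']
  haveI := Grass52.isIso_quotBC (rfl : θ' ≫ θ = θ' ≫ θ) e.hom
  have h1 : θ' ≫ θ = h := huniq _ ⟨hgp, asIso (Grass.quotBC (rfl : θ' ≫ θ = θ' ≫ θ) e.hom) ≪≫ e', by
    have := Grass52.quotBC_quotBC hgp (rfl : θ' ≫ θ = θ' ≫ θ) hθ hθ' q e.hom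
    rw [he] at this
    simp only [Grass.quotBC, Category.assoc] at this he' ⊢
    simp only [Iso.trans_hom, asIso_hom, Category.assoc]
    rw [reassoc_of% this, he']⟩
  have h2 : 𝟙 P = h := huniq _ ⟨Category.id_comp π, (Scheme.Modules.pullbackId P).app O1, by
    have := quotBC_id (π := π) q
    simp only [Grass.quotBC, Category.assoc] at this
    simpa only [Iso.app_hom] using this⟩
  rw [h1, h2]

theorem exists_iso {q : (Scheme.Modules.pullback π).obj E ⟶ O1} {q' : (Scheme.Modules.pullback π').obj E ⟶ O1'}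
    (hP : KRR.IsProjBundle π E O1 q) (hP' : KRR.IsProjBundle π' E O1' q') :
    ∃ θ : P' ≅ P, θ.hom ≫ π = π' := by
  obtain ⟨θ, ⟨hθ, e, he⟩, -⟩ := hP.univ P' π' O1' hP'.invertible q' hP'.epi
  obtain ⟨θ', ⟨hθ', e', he'⟩, -⟩ := hP'.univ P π O1 hP.invertible q hP.epi
  have h : Grass.quotBC hθ q ≫ e.hom = q' := by rw [← he]; simp only [Grass.quotBC, Category.assoc]
  have h' : Grass.quotBC hθ' q' ≫ e'.hom = q := by rw [← he']; simp only [Grass.quotBC, Category.assoc]
  exact ⟨⟨θ, θ', comp_eq_id hP' hθ' e' h' hθ e h, comp_eq_id hP hθ e h hθ' e' h'⟩, hθ⟩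

theorem isProper_of_isProjBundle {q : (Scheme.Modules.pullback π).obj E ⟶ O1}
    (hE : FlatMod.IsFinLocFree E) [E.IsQuasicoherent] (hP : KRR.IsProjBundle π E O1 q) : IsProper π := by
  obtain ⟨P₀, π₀, O₀, q₀, h₀, hπ₀⟩ := exists_isProjBundle hE
  obtain ⟨θ, hθ⟩ := exists_iso h₀ hP
  rw [← hθ]
  infer_instance

end Groth.Agent.ChernUniq88
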